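import Groth.Agent.CohTopLib.Functors
import Groth.Prelude.Def_CohCx
import Mathlib.Algebra.Homology.HomologySequence
import Mathlib.Algebra.Homology.HomologicalComplexBiprod
import Mathlib.CategoryTheory.Abelian.RightDerived

/-! # Relative Mayer-Vietoris -/

set_option autoImplicit false
set_option backward.isDefEq.respectTransparency false

noncomputable section

universe u v

open CategoryTheory CategoryTheory.Limits TopologicalSpace Opposite

namespace Groth.Agent.RelMV

section Abstract

variable {A : Type u} [Category.{v} A] [Abelian A] {K L₁ L₂ M : CochainComplex A ℕ}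
  (a : K ⟶ L₁) (b : K ⟶ L₂) (c : L₁ ⟶ M) (d : L₂ ⟶ M)

/-- the long sequence of a short exact sequence with split middle -/
theorem exists_delta (w : biprod.lift a b ≫ biprod.desc c d = 0)
    (hS : (ShortComplex.mk (biprod.lift a b) (biprod.desc c d) w).ShortExact)
    {k l₁ l₂ m : ℕ → A} (eK : ∀ n, k n ≅ K.homology n) (e₁ : ∀ n, l₁ n ≅ L₁.homology n)
    (e₂ : ∀ n, l₂ n ≅ L₂.homology n) (eM : ∀ n, m n ≅ M.homology n)
    (α : ∀ n, k n ⟶ l₁ n) (β : ∀ n, k n ⟶ l₂ n) (γ : ∀ n, l₁ n ⟶ m n) (δ' : ∀ n, l₂ n ⟶ m n)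
    (hα : ∀ n, α n ≫ (e₁ n).hom = (eK n).hom ≫ HomologicalComplex.homologyMap a n)
    (hβ : ∀ n, β n ≫ (e₂ n).hom = (eK n).hom ≫ HomologicalComplex.homologyMap b n)
    (hγ : ∀ n, γ n ≫ (eM n).hom = (e₁ n).hom ≫ HomologicalComplex.homologyMap c n)
    (hδ : ∀ n, δ' n ≫ (eM n).hom = (e₂ n).hom ≫ HomologicalComplex.homologyMap d n) :
    ∃ δ : ∀ n, m n ⟶ k (n + 1), Mono (biprod.lift (α 0) (β 0)) ∧
      ∀ n, (ComposableArrows.mk₂ (biprod.lift (α n) (β n)) (biprod.desc (γ n) (δ' n))).Exact ∧
        (ComposableArrows.mk₂ (biprod.desc (γ n) (δ' n)) (δ n)).Exact ∧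
        (ComposableArrows.mk₂ (δ n) (biprod.lift (α (n + 1)) (β (n + 1)))).Exact := by
  let H : ℕ → CochainComplex A ℕ ⥤ A := fun n => HomologicalComplex.homologyFunctor A (ComplexShape.up ℕ) n
  haveI : ∀ n, PreservesBinaryBiproduct L₁ L₂ (H n) := fun n =>
    preservesBinaryBiproduct_of_preservesBiproduct _ _ _
  let E : ∀ n, (l₁ n ⊞ l₂ n) ≅ HomologicalComplex.homology (L₁ ⊞ L₂) n := fun n =>
    biprod.mapIso (e₁ n) (e₂ n) ≪≫ ((H n).mapBiprod L₁ L₂).symm
  let F : ∀ n, biprod.lift (α n) (β n) ≫ (E n).hom = (eK n).hom ≫ HomologicalComplex.homologyMap (biprod.lift a b) n := fun n => by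
    simp only [E, Iso.trans_hom, Iso.symm_hom]
    rw [← Category.assoc, Iso.comp_inv_eq, Category.assoc]
    apply biprod.hom_ext
    · simp only [biprod.mapIso_hom, Category.assoc, biprod.map_fst, biprod.lift_fst_assoc, Functor.mapBiprod_hom,
        biprod.lift_fst]
      erw [biprod.lift_fst]
      rw [hα n, show HomologicalComplex.homologyMap (biprod.lift a b) n ≫ (H n).map biprod.fst =
        HomologicalComplex.homologyMap a n from by
          rw [show (H n).map biprod.fst = HomologicalComplex.homologyMap biprod.fst n from rfl,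
            ← HomologicalComplex.homologyMap_comp, biprod.lift_fst]]
    · simp only [biprod.mapIso_hom, Category.assoc, biprod.map_snd, biprod.lift_snd_assoc, Functor.mapBiprod_hom,
        biprod.lift_snd]
      erw [biprod.lift_snd]
      rw [hβ n, show HomologicalComplex.homologyMap (biprod.lift a b) n ≫ (H n).map biprod.snd =
        HomologicalComplex.homologyMap b n from by
          rw [show (H n).map biprod.snd = HomologicalComplex.homologyMap biprod.snd n from rfl,
            ← HomologicalComplex.homologyMap_comp, biprod.lift_snd]]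
  let G : ∀ n, biprod.desc (γ n) (δ' n) ≫ (eM n).hom = (E n).hom ≫ HomologicalComplex.homologyMap (biprod.desc c d) n := fun n => by
    simp only [E, Iso.trans_hom, Iso.symm_hom, Functor.mapBiprod_inv, Category.assoc]
    apply biprod.hom_ext'
    · simp only [biprod.inl_desc_assoc, biprod.mapIso_hom, biprod.inl_map_assoc]
      rw [hγ n]
      congr 1
      rw [show (H n).map biprod.inl = HomologicalComplex.homologyMap biprod.inl n from rfl,
        ← HomologicalComplex.homologyMap_comp, biprod.inl_desc]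
    · simp only [biprod.inr_desc_assoc, biprod.mapIso_hom, biprod.inr_map_assoc]
      rw [hδ n]
      congr 1
      rw [show (H n).map biprod.inr = HomologicalComplex.homologyMap biprod.inr n from rfl,
        ← HomologicalComplex.homologyMap_comp, biprod.inr_desc]
  refine ⟨fun n => (eM n).hom ≫ hS.δ n (n + 1) rfl ≫ (eK (n + 1)).inv, ?_, fun n => ⟨?_, ?_, ?_⟩⟩
  · haveI : Mono (HomologicalComplex.homologyMap (biprod.lift a b) 0) :=
      haveI : Mono (biprod.lift a b) := hS.mono_f
      HomologicalComplex.mono_homologyMap_of_mono_of_not_rel _ 0 (fun j => by simp)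
    haveI : Mono (biprod.lift (α 0) (β 0) ≫ (E 0).hom) := by rw [F 0]; infer_instance
    exact mono_of_mono _ (E 0).hom
  · refine (show (ShortComplex.mk (biprod.lift (α n) (β n)) (biprod.desc (γ n) (δ' n)) ?_).Exact from
      (ShortComplex.exact_iff_of_iso (ShortComplex.isoMk (eK n) (E n) (eM n) (F n).symm (G n).symm)).2
        (hS.homology_exact₂ n)).exact_toComposableArrows
    rw [← cancel_mono (eM n).hom, Category.assoc, G, ← Category.assoc, F, Category.assoc,
      ← HomologicalComplex.homologyMap_comp, w, HomologicalComplex.homologyMap_zero, comp_zero, zero_comp]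
  · refine (show (ShortComplex.mk (biprod.desc (γ n) (δ' n)) ((eM n).hom ≫ hS.δ n (n + 1) rfl ≫ (eK (n + 1)).inv) ?_).Exact from
      (ShortComplex.exact_iff_of_iso (ShortComplex.isoMk (E n) (eM n) (eK (n + 1)) (G n).symm (by simp))).2
        (hS.homology_exact₃ n (n + 1) rfl)).exact_toComposableArrows
    rw [← Category.assoc, G, Category.assoc, ← Category.assoc (HomologicalComplex.homologyMap (biprod.desc c d) n)]
    erw [hS.comp_δ n (n + 1) rfl]
    rw [zero_comp, comp_zero]
  · refine (show (ShortComplex.mk ((eM n).hom ≫ hS.δ n (n + 1) rfl ≫ (eK (n + 1)).inv) (biprod.lift (α (n + 1)) (β (n + 1))) ?_).Exact from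
      (ShortComplex.exact_iff_of_iso (ShortComplex.isoMk (eM n) (eK (n + 1)) (E (n + 1)) (by simp) (F (n + 1)).symm)).2
        (hS.homology_exact₁ n (n + 1) rfl)).exact_toComposableArrows
    rw [← cancel_mono (E (n + 1)).hom, zero_comp, Category.assoc, F, Category.assoc, Category.assoc,
      Iso.inv_hom_id_assoc]
    erw [hS.δ_comp n (n + 1) rfl]
    rw [comp_zero]

end Abstract

section Terms

variable {X Y : TopCat.{u}} (f : X ⟶ Y) (U V : Opens X)

lemma biprod_ext {P Q : CohTop.Ab Y} (W : Opens Y) (x y : (P ⊞ Q).obj.obj (op W))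
    (h₁ : (biprod.fst : P ⊞ Q ⟶ P).hom.app (op W) x = (biprod.fst : P ⊞ Q ⟶ P).hom.app (op W) y)
    (h₂ : (biprod.snd : P ⊞ Q ⟶ Q).hom.app (op W) x = (biprod.snd : P ⊞ Q ⟶ Q).hom.app (op W) y) : x = y := by
  have e : ∀ z : (P ⊞ Q).obj.obj (op W),
      (biprod.inl : P ⟶ P ⊞ Q).hom.app (op W) ((biprod.fst : P ⊞ Q ⟶ P).hom.app (op W) z) +
        (biprod.inr : Q ⟶ P ⊞ Q).hom.app (op W) ((biprod.snd : P ⊞ Q ⟶ Q).hom.app (op W) z) = z := fun z =>
    congrArg (fun φ : P ⊞ Q ⟶ P ⊞ Q => φ.hom.app (op W) z) (biprod.total (X := P) (Y := Q))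
  rw [← e x, ← e y, h₁, h₂]

/-- the open of `X` under an open of `Y`, in an open subspace -/
abbrev im (U : Opens X) (W : Opens Y) : Opens X :=
  U.isOpenEmbedding.isOpenMap.functor.obj ((Opens.map (CohCx.incl U ≫ f)).obj W)

lemma mem_im (U : Opens X) (W : Opens Y) (x : X) : x ∈ im f U W ↔ x ∈ U ∧ f x ∈ W :=
  ⟨fun ⟨y, hy, h⟩ => h ▸ ⟨y.2, hy⟩, fun ⟨hU, hW⟩ => ⟨⟨x, hU⟩, hW, rfl⟩⟩

/-- the short complex on a sheaf -/
abbrev mvSeq (F : CohTop.Ab X)
    (w : biprod.lift ((CohCx.pushToRestrPush f U).app F) ((CohCx.pushToRestrPush f V).app F) ≫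
      biprod.desc ((CohCx.restrPushToRestrPush f (inf_le_left : U ⊓ V ≤ U)).app F)
        (-((CohCx.restrPushToRestrPush f (inf_le_right : U ⊓ V ≤ V)).app F)) = 0) : ShortComplex (CohTop.Ab Y) :=
  ShortComplex.mk _ _ w

lemma mv_w (F : CohTop.Ab X) :
    biprod.lift ((CohCx.pushToRestrPush f U).app F) ((CohCx.pushToRestrPush f V).app F) ≫
      biprod.desc ((CohCx.restrPushToRestrPush f (inf_le_left : U ⊓ V ≤ U)).app F)
        (-((CohCx.restrPushToRestrPush f (inf_le_right : U ⊓ V ≤ V)).app F)) = 0 := by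
  rw [biprod.lift_desc, Preadditive.comp_neg, ← sub_eq_add_neg, sub_eq_zero]
  ext W x
  exact (QCohBase.res_res F.obj _ _ x).trans (QCohBase.res_res F.obj _ _ x).symm

variable {U V}

theorem mvSeq_shortExact (hUV : U ⊔ V = ⊤) (F : CohTop.Ab X) [TopCat.Sheaf.IsFlasque F] :
    (mvSeq f U V F (mv_w f U V F)).ShortExact := by
  let a := (CohCx.pushToRestrPush f U).app F
  let b := (CohCx.pushToRestrPush f V).app F
  let c := (CohCx.restrPushToRestrPush f (inf_le_left : U ⊓ V ≤ U)).app F
  let d := (CohCx.restrPushToRestrPush f (inf_le_right : U ⊓ V ≤ V)).app F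
  have hle : ∀ (U : Opens X) (W : Opens Y), im f U W ≤ (Opens.map f).obj W :=
    fun U W x hx => ((mem_im f U W x).1 hx).2
  let cov : Opens Y → Bool → Opens X := fun W t => if t then im f U W else im f V W
  have hcov : ∀ W, (Opens.map f).obj W ≤ iSup (cov W) := fun W x hx => by
    rcases (hUV ▸ (trivial : x ∈ (⊤ : Opens X)) : x ∈ U ⊔ V) with h | h
    · exact Opens.mem_iSup.2 ⟨true, (mem_im f U W x).2 ⟨h, hx⟩⟩
    · exact Opens.mem_iSup.2 ⟨false, (mem_im f V W x).2 ⟨h, hx⟩⟩
  have hcl : ∀ W t, cov W t ≤ (Opens.map f).obj W := fun W t => by cases t <;> exact hle _ _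
  refine { exact := ?_, mono_f := ?_, epi_g := ?_ }
  · let S := (mvSeq f U V F (mv_w f U V F))
    have hp : (S.map (sheafToPresheaf (Opens.grothendieckTopology Y) AddCommGrpCat.{u})).Exact := by
      rw [ShortComplex.exact_iff_isZero_homology, Functor.isZero_iff]
      intro W
      refine ((ShortComplex.exact_iff_isZero_homology _).1 ?_).of_iso
        (ShortComplex.mapHomologyIso _ ((evaluation (Opens Y)ᵒᵖ AddCommGrpCat.{u}).obj W)).symm
      rw [ShortComplex.ab_exact_iff]
      obtain ⟨W⟩ := W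
      intro z hz
      let x := (biprod.fst : _ ⊞ _ ⟶ (CohTop.restrFunctor U ⋙ CohTop.push (CohCx.incl U ≫ f)).obj F).hom.app (op W) z
      let y := (biprod.snd : _ ⊞ _ ⟶ (CohTop.restrFunctor V ⋙ CohTop.push (CohCx.incl V ≫ f)).obj F).hom.app (op W) z
      have hxy : c.hom.app (op W) x = d.hom.app (op W) y := by
        have e : (biprod.desc c (-d)) = biprod.fst ≫ c + biprod.snd ≫ (-d) := biprod.desc_eq
        have hz' := (congrArg (fun φ => φ.hom.app (op W) z) e).symm.trans hz
        have hz'' : c.hom.app (op W) x + -(d.hom.app (op W) y) = 0 := hz'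
        exact eq_of_sub_eq_zero ((sub_eq_add_neg _ _).trans hz'')
      let sf : ∀ t, F.obj.obj (op (cov W t)) := fun t => match t with
        | true => x
        | false => y
      have hsub : im f U W ⊓ im f V W ≤ im f (U ⊓ V) W := fun p hp =>
        (mem_im f _ W p).2 ⟨⟨((mem_im f U W p).1 hp.1).1, ((mem_im f V W p).1 hp.2).1⟩, ((mem_im f U W p).1 hp.1).2⟩
      have hk : QCohBase.res F.obj (inf_le_left : im f U W ⊓ im f V W ≤ im f U W) x =
          QCohBase.res F.obj (inf_le_right : im f U W ⊓ im f V W ≤ im f V W) y := by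
        have := congrArg (QCohBase.res F.obj hsub) hxy
        exact ((QCohBase.res_res F.obj _ hsub x).symm.trans this).trans (QCohBase.res_res F.obj _ hsub y)
      have hcompat : TopCat.Presheaf.IsCompatible F.obj (cov W) sf := by
        rintro (_ | _) (_ | _)
        · rfl
        · have := congrArg (QCohBase.res F.obj (le_of_eq (inf_comm (im f V W) (im f U W)))) hk
          rw [QCohBase.res_res, QCohBase.res_res] at this
          exact this.symm
        · exact hk
        · rfl
      obtain ⟨r, hr, -⟩ := TopCat.Sheaf.existsUnique_gluing' F (cov W) ((Opens.map f).obj W)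
        (fun t => homOfLE (hcl W t)) (hcov W) sf hcompat
      refine ⟨r, biprod_ext W _ _ ?_ ?_⟩
      · refine Eq.trans ?_ (hr true)
        exact congrArg (fun φ => φ.hom.app (op W) r) (biprod.lift_fst a b)
      · refine Eq.trans ?_ (hr false)
        exact congrArg (fun φ => φ.hom.app (op W) r) (biprod.lift_snd a b)
    haveI := (sheafificationAdjunction (Opens.grothendieckTopology Y) AddCommGrpCat.{u}).leftAdjoint_preservesColimits.{0, 0}
    exact (ShortComplex.exact_iff_of_iso (S.mapNatIso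
      (asIso (sheafificationAdjunction (Opens.grothendieckTopology Y) AddCommGrpCat.{u}).counit))).1
      (hp.map (presheafToSheaf (Opens.grothendieckTopology Y) AddCommGrpCat.{u}))
  · haveI : ∀ W, Mono ((biprod.lift a b).hom.app W) := fun W => by
      obtain ⟨W⟩ := W
      refine (AddCommGrpCat.mono_iff_injective _).2 fun r r' h => ?_
      refine TopCat.Sheaf.eq_of_locally_eq' F (cov W) ((Opens.map f).obj W)
        (fun t => homOfLE (hcl W t)) (hcov W) _ _ ?_
      rintro (_ | _)
      · have := congrArg ((biprod.snd : _ ⊞ _ ⟶ (CohTop.restrFunctor V ⋙ CohTop.push (CohCx.incl V ≫ f)).obj F).hom.app (op W)) h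
        exact (congrArg (fun φ => φ.hom.app (op W) r) (biprod.lift_snd a b)).symm.trans
          (this.trans (congrArg (fun φ => φ.hom.app (op W) r') (biprod.lift_snd a b)))
      · have := congrArg ((biprod.fst : _ ⊞ _ ⟶ (CohTop.restrFunctor U ⋙ CohTop.push (CohCx.incl U ≫ f)).obj F).hom.app (op W)) h
        exact (congrArg (fun φ => φ.hom.app (op W) r) (biprod.lift_fst a b)).symm.trans
          (this.trans (congrArg (fun φ => φ.hom.app (op W) r') (biprod.lift_fst a b)))
    haveI : Mono (biprod.lift a b).hom := NatTrans.mono_of_mono_app _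
    exact (sheafToPresheaf _ _).mono_of_mono_map this
  · refine (CategoryTheory.Sheaf.isLocallySurjective_iff_epi' (φ := biprod.desc c (-d))).1 ?_
    refine (TopCat.Presheaf.isLocallySurjective_iff (biprod.desc c (-d)).hom).2 fun W s y hy => ?_
    have hle' : im f (U ⊓ V) W ≤ im f U W := fun p hp =>
      (mem_im f U W p).2 ⟨((mem_im f _ W p).1 hp).1.1, ((mem_im f _ W p).1 hp).2⟩
    obtain ⟨x, hx⟩ := (AddCommGrpCat.epi_iff_surjective _).1
      (TopCat.Presheaf.IsFlasque.epi (F := F.obj) (homOfLE hle').op) s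
    refine ⟨W, le_rfl, ⟨(biprod.inl : _ ⟶ _ ⊞ (CohTop.restrFunctor V ⋙ CohTop.push (CohCx.incl V ≫ f)).obj F).hom.app (op W) x,
      ?_⟩, hy⟩
    refine (congrArg (fun φ => φ.hom.app (op W) x) (biprod.inl_desc c (-d))).trans ?_
    exact hx.trans (QCohBase.res_refl _ le_rfl s).symm

end Terms

end Groth.Agent.RelMV
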