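import Groth.Agent.RelMV.Basic
import Groth.Agent.FlasqueAcyclic.Cech
import Mathlib.Algebra.Homology.HomologicalComplexAbelian

/-! # Relative Mayer-Vietoris: the long exact sequence -/

set_option autoImplicit false
set_option backward.isDefEq.respectTransparency false

noncomputable section

universe u

open CategoryTheory CategoryTheory.Limits TopologicalSpace Opposite

namespace Groth.Agent.RelMV

variable {X Y : TopCat.{u}} (f : X ⟶ Y) {U V : Opens X}

theorem exists_mv (hUV : U ⊔ V = ⊤) (F : CohTop.Ab X) :
    ∃ δ : ∀ n : ℕ, (CohCx.RpushOn f (U ⊓ V) n).obj F ⟶ (CohTop.Rpush f (n + 1)).obj F,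
      Mono (biprod.lift ((NatTrans.rightDerived (CohCx.pushToRestrPush f U) 0).app F)
        ((NatTrans.rightDerived (CohCx.pushToRestrPush f V) 0).app F)) ∧
      ∀ n : ℕ,
        (ComposableArrows.mk₂
          (biprod.lift ((NatTrans.rightDerived (CohCx.pushToRestrPush f U) n).app F)
            ((NatTrans.rightDerived (CohCx.pushToRestrPush f V) n).app F))
          (biprod.desc
            ((NatTrans.rightDerived (CohCx.restrPushToRestrPush f (inf_le_left : U ⊓ V ≤ U)) n).app F)
            (-((NatTrans.rightDerived (CohCx.restrPushToRestrPush f (inf_le_right : U ⊓ V ≤ V)) n).app F)))).Exact ∧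
        (ComposableArrows.mk₂
          (biprod.desc
            ((NatTrans.rightDerived (CohCx.restrPushToRestrPush f (inf_le_left : U ⊓ V ≤ U)) n).app F)
            (-((NatTrans.rightDerived (CohCx.restrPushToRestrPush f (inf_le_right : U ⊓ V ≤ V)) n).app F)))
          (δ n)).Exact ∧
        (ComposableArrows.mk₂ (δ n)
          (biprod.lift ((NatTrans.rightDerived (CohCx.pushToRestrPush f U) (n + 1)).app F)
            ((NatTrans.rightDerived (CohCx.pushToRestrPush f V) (n + 1)).app F))).Exact := by
  let P := injectiveResolution F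
  let a := (NatTrans.mapHomologicalComplex (CohCx.pushToRestrPush f U) (ComplexShape.up ℕ)).app P.cocomplex
  let b := (NatTrans.mapHomologicalComplex (CohCx.pushToRestrPush f V) (ComplexShape.up ℕ)).app P.cocomplex
  let c := (NatTrans.mapHomologicalComplex (CohCx.restrPushToRestrPush f (inf_le_left : U ⊓ V ≤ U)) (ComplexShape.up ℕ)).app P.cocomplex
  let d := -((NatTrans.mapHomologicalComplex (CohCx.restrPushToRestrPush f (inf_le_right : U ⊓ V ≤ V)) (ComplexShape.up ℕ)).app P.cocomplex)
  have hf : ∀ n, (biprod.lift a b).f n ≫ (HomologicalComplex.biprodXIso _ _ n).hom = biprod.lift (a.f n) (b.f n) := fun n => by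
    apply biprod.hom_ext
    · rw [Category.assoc, HomologicalComplex.biprodXIso_hom_fst, HomologicalComplex.biprod_lift_fst_f, biprod.lift_fst]
    · rw [Category.assoc, HomologicalComplex.biprodXIso_hom_snd, HomologicalComplex.biprod_lift_snd_f, biprod.lift_snd]
  have hg : ∀ n, (HomologicalComplex.biprodXIso _ _ n).hom ≫ biprod.desc (c.f n) (d.f n) = (biprod.desc c d).f n := fun n => by
    rw [← Iso.eq_inv_comp]
    apply biprod.hom_ext'
    · rw [biprod.inl_desc, ← Category.assoc]
      erw [HomologicalComplex.inl_biprodXIso_inv, HomologicalComplex.biprod_inl_desc_f]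
    · rw [biprod.inr_desc, ← Category.assoc]
      erw [HomologicalComplex.inr_biprodXIso_inv, HomologicalComplex.biprod_inr_desc_f]
  have w : biprod.lift a b ≫ biprod.desc c d = 0 := by
    ext n : 1
    rw [HomologicalComplex.comp_f, ← hg n, ← Category.assoc, hf n, HomologicalComplex.zero_f]
    exact mv_w f U V (P.cocomplex.X n)
  have hS : (ShortComplex.mk (biprod.lift a b) (biprod.desc c d) w).ShortExact := by
    refine HomologicalComplex.shortExact_of_degreewise_shortExact _ fun n => ?_
    haveI : TopCat.Sheaf.IsFlasque (P.cocomplex.X n) :=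
      haveI : Injective (P.cocomplex.X n) := P.injective n
      FlasqueAcyclic.isFlasque_of_injective _
    have e : (ShortComplex.mk (biprod.lift a b) (biprod.desc c d) w).map (HomologicalComplex.eval _ _ n) ≅
        mvSeq f U V (P.cocomplex.X n) (mv_w f U V (P.cocomplex.X n)) :=
      ShortComplex.isoMk (Iso.refl _) (HomologicalComplex.biprodXIso _ _ n) (Iso.refl _)
        ((Category.id_comp _).trans (hf n).symm) ((hg n).trans (Category.comp_id _).symm)
    exact ShortComplex.shortExact_of_iso e.symm (mvSeq_shortExact f hUV (P.cocomplex.X n))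
  refine exists_delta a b c d w hS (fun n => P.isoRightDerivedObj (CohTop.push f) n) (fun n => P.isoRightDerivedObj (CohTop.restrFunctor U ⋙ CohTop.push (CohCx.incl U ≫ f)) n)
    (fun n => P.isoRightDerivedObj (CohTop.restrFunctor V ⋙ CohTop.push (CohCx.incl V ≫ f)) n) (fun n => P.isoRightDerivedObj (CohTop.restrFunctor (U ⊓ V) ⋙ CohTop.push (CohCx.incl (U ⊓ V) ≫ f)) n)
    (fun n => (NatTrans.rightDerived (CohCx.pushToRestrPush f U) n).app F)
    (fun n => (NatTrans.rightDerived (CohCx.pushToRestrPush f V) n).app F)
    (fun n => (NatTrans.rightDerived (CohCx.restrPushToRestrPush f (inf_le_left : U ⊓ V ≤ U)) n).app F)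
    (fun n => -(NatTrans.rightDerived (CohCx.restrPushToRestrPush f (inf_le_right : U ⊓ V ≤ V)) n).app F)
    (fun n => ?_) (fun n => ?_) (fun n => ?_) (fun n => ?_)
  · rw [InjectiveResolution.rightDerived_app_eq _ P n]
    simp only [Category.assoc, Iso.inv_hom_id, Category.comp_id]
    rfl
  · rw [InjectiveResolution.rightDerived_app_eq _ P n]
    simp only [Category.assoc, Iso.inv_hom_id, Category.comp_id]
    rfl
  · rw [InjectiveResolution.rightDerived_app_eq _ P n]
    simp only [Category.assoc, Iso.inv_hom_id, Category.comp_id]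
    rfl
  · rw [InjectiveResolution.rightDerived_app_eq _ P n]
    simp only [Preadditive.neg_comp, Category.assoc, Iso.inv_hom_id, Category.comp_id, d,
      HomologicalComplex.homologyMap_neg, Preadditive.comp_neg]
    rfl

end Groth.Agent.RelMV
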